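import Mathlib.Algebra.CharP.Lemmas
import Mathlib.RingTheory.Ideal.Quotient.Operations
import Mathlib.Algebra.MonoidAlgebra.Basic
import Mathlib.Algebra.MonoidAlgebra.Module
import Mathlib.RingTheory.TensorProduct.Maps
import Mathlib.LinearAlgebra.Finsupp.LinearCombination

/-!
# Perfect rings of characteristic `p`, the zero ring allowed
-/

set_option autoImplicit false

universe u v w

open TensorProduct

namespace Groth.Agent.PerfTor

/-- `p = 0` in `R` and the `p`-th power map is bijective. -/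
def Perf (p : ℕ) (R : Type v) [CommRing R] : Prop :=
  (p : R) = 0 ∧ Function.Bijective fun x : R => x ^ p

variable {p : ℕ} [hp : Fact p.Prime] {R : Type v} [CommRing R]

lemma add_pow_p (h : (p : R) = 0) (x y : R) : (x + y) ^ p = x ^ p + y ^ p := by
  obtain ⟨r, hr⟩ := exists_add_pow_prime_eq hp.out x y
  rw [hr, h]
  simp

/-- The `p`-th power map as a ring homomorphism. -/
def frob (h : (p : R) = 0) : R →+* R where
  toFun x := x ^ p
  map_one' := one_pow p
  map_mul' x y := mul_pow x y p
  map_zero' := zero_pow hp.out.ne_zero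
  map_add' := add_pow_p h

lemma sub_pow_p (h : (p : R) = 0) (x y : R) : (x - y) ^ p = x ^ p - y ^ p :=
  map_sub (frob h) x y

lemma Perf.bij_iterate (h : Perf p R) (n : ℕ) : Function.Bijective fun x : R => x ^ p ^ n := by
  induction n with
  | zero =>
    simp only [pow_zero, pow_one]
    exact Function.bijective_id
  | succ n ih =>
    have : (fun x : R => x ^ p ^ (n + 1)) = (fun x : R => x ^ p) ∘ fun x : R => x ^ p ^ n := by
      funext x
      simp [pow_succ, pow_mul]
    rw [this]
    exact h.2.comp ih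

omit hp in
lemma Perf.eq_zero_of_pow_eq_zero [hp : Fact p.Prime] (h : Perf p R) {x : R} {k : ℕ}
    (hx : x ^ k = 0) : x = 0 := by
  have h0 : x ^ p ^ k = (0 : R) ^ p ^ k := by
    rw [zero_pow (pow_ne_zero _ hp.out.ne_zero)]
    exact pow_eq_zero_of_le (Nat.lt_pow_self hp.out.one_lt).le hx
  exact (h.bij_iterate k).1 h0

lemma Perf.radical_bot (h : Perf p R) : (⊥ : Ideal R).radical = ⊥ := by
  refine le_antisymm (fun x hx => ?_) Ideal.le_radical
  obtain ⟨k, hk⟩ := hx
  exact Ideal.mem_bot.mpr (h.eq_zero_of_pow_eq_zero (Ideal.mem_bot.mp hk))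

lemma Perf.of_surjective {S : Type w} [CommRing S] (h : Perf p R) (g : R →+* S)
    (hg : Function.Surjective g) (hk : (RingHom.ker g).IsRadical) : Perf p S := by
  have hS : (p : S) = 0 := by rw [← map_natCast g, h.1, map_zero]
  refine ⟨hS, fun x y hxy => ?_, fun x => ?_⟩
  · obtain ⟨x, rfl⟩ := hg x
    obtain ⟨y, rfl⟩ := hg y
    have hmem : x - y ∈ (RingHom.ker g).radical := ⟨p, by
      rw [RingHom.mem_ker, map_pow, map_sub, sub_pow_p hS]
      exact sub_eq_zero.mpr hxy⟩
    rw [hk.radical, RingHom.mem_ker, map_sub, sub_eq_zero] at hmem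
    exact hmem
  · obtain ⟨x, rfl⟩ := hg x
    obtain ⟨y, rfl⟩ := h.2.2 x
    exact ⟨g y, (map_pow g y p).symm⟩

/-- A compatible system of `p`-power roots. -/
lemma Perf.exists_roots (h : Perf p R) (f : R) :
    ∃ r : ℕ → R, r 0 = f ∧ ∀ n, r (n + 1) ^ p = r n := by
  choose s hs using h.2.2
  exact ⟨fun n => s^[n] f, rfl, fun n => by simp only [Function.iterate_succ_apply']; exact hs _⟩

lemma pow_roots {r : ℕ → R} (hr : ∀ n, r (n + 1) ^ p = r n) (n d : ℕ) :
    r (n + d) ^ p ^ d = r n := by
  induction d generalizing n with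
  | zero => simp
  | succ d ih =>
    rw [← hr n, ← ih (n + 1), ← pow_mul, ← pow_succ, show n + (d + 1) = n + 1 + d by omega]

lemma Perf.mem_radical_iff (h : Perf p R) {r : ℕ → R} (hr : ∀ n, r (n + 1) ^ p = r n) (x : R) :
    x ∈ (Ideal.span {r 0}).radical ↔ ∃ n q, x = r n * q := by
  constructor
  · rintro ⟨k, hk⟩
    have hk' : x ^ p ^ k ∈ Ideal.span {r 0} :=
      Ideal.pow_mem_of_pow_mem _ hk (Nat.lt_pow_self hp.out.one_lt).le
    obtain ⟨c, hc⟩ := Ideal.mem_span_singleton'.mp hk'
    obtain ⟨q, hq⟩ := (h.bij_iterate k).2 c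
    refine ⟨k, q, (h.bij_iterate k).1 ?_⟩
    have h0 := pow_roots hr 0 k
    rw [zero_add] at h0
    show x ^ p ^ k = (r k * q) ^ p ^ k
    rw [mul_pow, h0, ← hc, mul_comm]
    exact congrArg (r 0 * ·) hq.symm
  · rintro ⟨n, q, rfl⟩
    refine Ideal.mul_mem_right _ _ ⟨p ^ n, ?_⟩
    have h0 := pow_roots hr 0 n
    rw [zero_add] at h0
    rw [h0]
    exact Ideal.subset_span rfl

/-- Base change of perfect rings is perfect. -/
lemma Perf.tensor {A : Type u} {B : Type v} {C : Type w} [CommRing A] [CommRing B] [CommRing C]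
    [Algebra A B] [Algebra A C] (hA : Perf p A) (hB : Perf p B) (hC : Perf p C) :
    Perf p (B ⊗[A] C) := by
  have h0 : (p : B ⊗[A] C) = 0 := by
    rw [← map_natCast (algebraMap A (B ⊗[A] C)), hA.1, map_zero]
  let φB := RingEquiv.ofBijective (frob hB.1) hB.2
  let φC := RingEquiv.ofBijective (frob hC.1) hC.2
  have hs : ∀ (a : A) (b : B) (c : C), φB.symm (a • b) ⊗ₜ[A] φC.symm c =
      φB.symm b ⊗ₜ[A] φC.symm (a • c) := by
    intro a b c
    obtain ⟨a, rfl⟩ := hA.2.2 a
    have e1 : φB.symm (a ^ p • b) = a • φB.symm b := by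
      rw [RingEquiv.symm_apply_eq]
      show a ^ p • b = (a • φB.symm b) ^ p
      rw [smul_pow]
      exact congrArg (a ^ p • ·) (φB.apply_symm_apply b).symm
    have e2 : φC.symm (a ^ p • c) = a • φC.symm c := by
      rw [RingEquiv.symm_apply_eq]
      show a ^ p • c = (a • φC.symm c) ^ p
      rw [smul_pow]
      exact congrArg (a ^ p • ·) (φC.apply_symm_apply c).symm
    rw [e1, e2, TensorProduct.smul_tmul]
  let ρ : B ⊗[A] C →+ B ⊗[A] C := TensorProduct.liftAddHom
    (AddMonoidHom.mk' (fun b => AddMonoidHom.mk' (fun c => φB.symm b ⊗ₜ[A] φC.symm c)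
      (fun c c' => by rw [map_add, TensorProduct.tmul_add]))
      (fun b b' => AddMonoidHom.ext fun c => by
        show φB.symm (b + b') ⊗ₜ[A] φC.symm c = _
        rw [map_add, TensorProduct.add_tmul]
        rfl)) hs
  have hρ : ∀ x, ρ (x ^ p) = x := by
    intro x
    induction x using TensorProduct.induction_on with
    | zero => rw [zero_pow hp.out.ne_zero, map_zero]
    | tmul b c =>
      rw [Algebra.TensorProduct.tmul_pow]
      show φB.symm (φB b) ⊗ₜ[A] φC.symm (φC c) = _
      rw [φB.symm_apply_apply, φC.symm_apply_apply]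
    | add x y hx hy => rw [add_pow_p h0, map_add, hx, hy]
  refine ⟨h0, Function.LeftInverse.injective hρ, fun x => ?_⟩
  induction x using TensorProduct.induction_on with
  | zero => exact ⟨0, zero_pow hp.out.ne_zero⟩
  | tmul b c =>
    obtain ⟨b, rfl⟩ := hB.2.2 b
    obtain ⟨c, rfl⟩ := hC.2.2 c
    exact ⟨b ⊗ₜ c, Algebra.TensorProduct.tmul_pow b c p⟩
  | add x y hx hy =>
    obtain ⟨x, rfl⟩ := hx
    obtain ⟨y, rfl⟩ := hy
    exact ⟨x + y, add_pow_p h0 x y⟩

/-- The monoid algebra of a uniquely `p`-divisible monoid over a perfect ring is perfect. -/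
lemma Perf.monoidAlgebra {A : Type u} [CommRing A] (hA : Perf p A) {M : Type v} [CommMonoid M]
    (hM : Function.Bijective fun m : M => m ^ p) : Perf p (MonoidAlgebra A M) := by
  classical
  have h0 : (p : MonoidAlgebra A M) = 0 := by
    rw [← map_natCast (algebraMap A (MonoidAlgebra A M)), hA.1, map_zero]
  have hc : ∀ (x : MonoidAlgebra A M) (m : M), (x ^ p).coeff (m ^ p) = x.coeff m ^ p := by
    intro x
    induction x using MonoidAlgebra.induction_linear with
    | zero => intro m; simp [zero_pow hp.out.ne_zero]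
    | add x y hx hy =>
      intro m
      simp only [add_pow_p h0, MonoidAlgebra.coeff_add, Finsupp.add_apply, hx, hy, add_pow_p hA.1]
    | single b a =>
      intro m
      rw [MonoidAlgebra.single_pow]
      simp only [MonoidAlgebra.coeff_single, Finsupp.single_apply]
      by_cases hbm : b = m
      · subst hbm; simp
      · rw [if_neg (fun h => hbm (hM.1 h)), if_neg hbm, zero_pow hp.out.ne_zero]
  refine ⟨h0, fun x y hxy => ?_, fun x => ?_⟩
  · ext m
    refine hA.2.1 ?_
    show x.coeff m ^ p = y.coeff m ^ p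
    rw [← hc, ← hc]
    exact congrArg (fun z : MonoidAlgebra A M => z.coeff (m ^ p)) hxy
  · induction x using MonoidAlgebra.induction_linear with
    | zero => exact ⟨0, zero_pow hp.out.ne_zero⟩
    | add x y hx hy =>
      obtain ⟨x, rfl⟩ := hx
      obtain ⟨y, rfl⟩ := hy
      exact ⟨x + y, add_pow_p h0 x y⟩
    | single m a =>
      obtain ⟨m, rfl⟩ := hM.2 m
      obtain ⟨a, rfl⟩ := hA.2.2 a
      exact ⟨MonoidAlgebra.single m a, MonoidAlgebra.single_pow m a p⟩

end Groth.Agent.PerfTor
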